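import Cfsg.Agent.Mrg.Omega.KL.TwoZ.Line
import Cfsg.Agent.Lib.NormalAbelian


/-!
# LEMMA 0 for lines (helper918 #24444, helper45): an invariant subgroup of `C_G(Z i)` which moves `N_i` moves all of it

`LFr S V Z l`, `j = i + 1`: `K` normal in `C_i = C_G(Z i)`, a 2-subgroup `A ≤ K` moves `N_i`, every `S`-minimal
`R ≤ C_i` which moves `l j` fuses `V j` into `Z j`.  Then `N_i = ⟨Z j ^ (K S)⟩`.
-/

set_option autoImplicit false
set_option linter.unusedSectionVars false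
set_option linter.unusedVariables false
set_option linter.unreachableTactic false
set_option linter.unusedTactic false

namespace Cfsg.Agent.Omega.KL.TwoZ.Line

open Subgroup Cfsg Cfsg.Agent.Omega.MinPar
open Cfsg.Agent.ZN (o2 zc)
open Cfsg.Agent.Omega.OM.KTwo (ne_add_one eq_add_one add_one_add_one le_normalizer_V le_V exists_mul_of_mem_sup)
open Cfsg.Agent.MinSimple.MinParabolic (IsMinPar)
open Cfsg.Agent.Omega.NoFF.Basic (conj_conj mem_conj conj_le_iff comm_symm comm_mono Z_le_V V_le)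
open Cfsg.Agent.Omega.NOThreeL.Pair (conj_eq_of_mem conj_le_normalizer)
open Cfsg.Agent.ZN.ChoiceSit (Syl exists_syl syl_conj o2_le_syl syl_not_dvd)
open Cfsg.Agent.MinSimple.VModule (mem_zc zc_le normalizer_le_normalizer_zc le_o2
  o2_isPGroup o2_le zc_le_centralizer le_centralizer_zc le_normalizer_o2)
open Cfsg.Agent.Omega.TC.LemZ (card_eq le_norm_of norm_cent norm_inf)
open Cfsg.Agent.Omega.KL.TwoZ (CC QQ NH NN V_le_of norm_V norm_o2_of sq_conj sq_V)
open Cfsg.Agent.Omega.OM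
open scoped Pointwise

universe u

variable {G : Type u} [Group G]

/-- an element of a 2-group which normalises `N ≠ 1` fixes an element of `N#` -/
theorem exists_fix_elem [Finite G] {T N : Subgroup G} (hT : IsPGroup 2 T) (hN : N ≤ T) {t : G} (ht : t ∈ T)
    (htN : t ∈ normalizer (N : Set G)) (hne : N ≠ ⊥) : ∃ x ∈ N, x ≠ 1 ∧ t * x = x * t := by
  have : Fact (Nat.Prime 2) := ⟨Nat.prime_two⟩
  set X : Subgroup G := zpowers t ⊔ N with hX
  have hXT : X ≤ T := sup_le ((zpowers_le).2 ht) hN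
  have hXN : X ≤ normalizer (N : Set G) := sup_le ((zpowers_le).2 htN) le_normalizer
  have hX2 : IsPGroup 2 X := hT.to_le hXT
  have hnil : Group.IsNilpotent X := hX2.isNilpotent
  have hn : (N.subgroupOf X).Normal := normal_subgroupOf_of_le_normalizer hXN
  have h1 : N.subgroupOf X ≠ ⊥ := by
    intro h
    rw [subgroupOf_eq_bot, disjoint_iff, inf_eq_left.2 le_sup_right] at h
    exact hne h
  have h2 := Lib.NormalAbelian.normal_inf_center_ne_bot _ h1
  obtain ⟨x, hx, hx1⟩ := (Subgroup.ne_bot_iff_exists_ne_one.1 h2).imp fun a ha => (⟨a.2, ha⟩ : _ ∧ _)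
  obtain ⟨x, hx'⟩ := x
  refine ⟨x, hx.1, fun h => hx1 (Subtype.ext (Subtype.ext h)), ?_⟩
  have := mem_center_iff.1 hx.2 ⟨t, le_sup_left (a := zpowers t) (mem_zpowers t)⟩
  exact congrArg Subtype.val this

namespace LFr

variable [Finite G] {S : Sylow 2 G} {V Z l : Fin 2 → Subgroup G} (D : LFr S V Z l)

include D

theorem V_le_S (i : Fin 2) : V i ≤ (S : Subgroup G) := (D.VQ i).trans (D.Q_le_S i)

/-- a minimal parabolic of `C_G(Z i)` which moves `l (i+1)` normalises the blocks -/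
theorem par_V {i j : Fin 2} {R : Subgroup G} (hR : IsMinPar (S : Subgroup G) R) (hRC : R ≤ CC Z i)
    (h : ¬ R ≤ normalizer (l j : Set G)) (k : Fin 2) : R ≤ normalizer (V k : Set G) := by
  have hc : ¬ R ≤ centralizer (zc (S : Subgroup G) : Set G) := fun hc => h (hc.trans (D.perm j))
  obtain ⟨z, hz, hz1⟩ := D.exists_ne i
  have hRz : R ≤ centralizer ({z} : Set G) := hRC.trans (centralizer_le (Set.singleton_subset_iff.2 hz))
  first
    | exact (D.uni R hR (D.o2_ne hz hz1 hR.le hRz) hc).1 k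
    | exact (D.uni R hR hc).1 k
    | exact (D.uni R hR (D.o2_ne hz hz1 hR.le hRz) hc).1 k
    | exact (D.uni i z hz hz1 R hR hRz hc).1 k

theorem nS_conf {i : Fin 2} {n : G} (hn : n ∈ CC Z i) (hnS : n ∈ normalizer ((S : Subgroup G) : Set G)) :
    n ∈ conf V l i := by
  obtain ⟨z, hz, hz1⟩ := D.exists_ne i
  refine D.conf_of (D.nS' hnS (D.Zl i hz) hz1 (j := i) ?_)
  have h1 : n * z * n⁻¹ = z := by
    rw [← mem_centralizer_iff.1 hn z hz, mul_inv_cancel_right]
  rw [h1]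
  exact D.ZV i hz

/-- the point through `v ∈ V j#` -/
theorem exists_point (i : Fin 2) {v : G} (hv : v ∈ V (i + 1)) :
    ∃ h ∈ CC Z i, h ∈ normalizer (V (i + 1) : Set G) ∧ h * v * h⁻¹ ∈ Z (i + 1) := by
  obtain ⟨h, hc, hV, hZ⟩ := D.trV (i + 1) v hv
  refine ⟨h, ?_, hV, hZ⟩
  have e : V (i + 1 + 1) = V i := by rw [PT.add2]
  rw [e] at hc
  exact centralizer_le (D.ZV i) hc

/-- an element of `S` which normalises all the conjugates of `l j` in `V j` centralises `V j` -/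
theorem cent_of_points {i : Fin 2} {t : G} (htS : t ∈ (S : Subgroup G))
    (ht : ∀ c ∈ CC Z i, t ∈ normalizer ((MulAut.conj c • l (i + 1) : Subgroup G) : Set G)) :
    t ∈ centralizer (l (i + 1) : Set G) := by
  -- points
  have hpt : ∀ v ∈ V (i + 1), v ∉ l (i + 1) → ∃ p : Subgroup G, v ∈ p ∧ p ≤ V (i + 1) ∧ t ∈ normalizer (p : Set G) ∧
      ∀ x ∈ p, x ∈ l (i + 1) → x = 1 := by
    intro v hv hvl
    obtain ⟨h, hC, hV, hZ⟩ := D.exists_point i hv
    have h1 : v ∈ MulAut.conj h⁻¹ • l (i + 1) := by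
      rw [mem_conj, inv_inv]
      exact D.Zl _ hZ
    refine ⟨MulAut.conj h⁻¹ • l (i + 1), h1, ?_, ht _ (inv_mem hC), ?_⟩
    · have h2 : MulAut.conj h⁻¹ • V (i + 1) = V (i + 1) := conj_eq_of_mem (inv_mem hV)
      rw [← h2]
      exact conj_le_iff.2 (D.lV _)
    · intro x hx hxl
      by_contra hx1
      have h2 : MulAut.conj h • l (i + 1) = l (i + 1) := by
        refine D.fuse_eq hxl hx1 ?_
        rw [mem_conj, inv_inv] at hx
        exact hx
      have h3 : MulAut.conj h⁻¹ • l (i + 1) = l (i + 1) := inv_conj h2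
      rw [h3] at h1
      exact hvl h1
  -- a point outside `l j` with a fixed vector
  obtain ⟨v, hv, hvl⟩ : ∃ v ∈ V (i + 1), v ∉ l (i + 1) := by
    by_contra hc
    push Not at hc
    have h1 := card_le_of_le (show V (i + 1) ≤ l (i + 1) from hc)
    have h2 : 1 < Nat.card (l (i + 1)) := by
      rw [Subgroup.one_lt_card_iff_ne_bot]
      exact fun e => D.ne (i + 1) (le_bot_iff.1 (e ▸ D.Zl (i + 1)))
    rw [D.cardV (i + 1)] at h1
    nlinarith
  obtain ⟨p, hvp, hpV, htp, hpl⟩ := hpt v hv hvl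
  have hpne : p ≠ ⊥ := by
    rintro rfl
    rw [mem_bot] at hvp
    exact hvl (hvp ▸ one_mem _)
  obtain ⟨w, hwp, hw1, htw⟩ := exists_fix_elem D.S2 (hpV.trans (D.V_le_S _)) htS htp hpne
  have hwV : w ∈ V (i + 1) := hpV hwp
  have hwl : w ∉ l (i + 1) := fun h => hw1 (hpl w hwp h)
  refine mem_centralizer_iff.2 fun u hu => ?_
  have huV : u ∈ V (i + 1) := D.lV _ hu
  have huwl : u * w ∉ l (i + 1) := fun h => hwl (((l (i + 1)).mul_mem_cancel_left hu).1 h)
  obtain ⟨p2, huw, -, htp2, hpl2⟩ := hpt (u * w) ((V (i + 1)).mul_mem huV hwV) huwl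
  have htl : t ∈ normalizer (l (i + 1) : Set G) := D.Sl _ htS
  have h1 : t * u * t⁻¹ ∈ l (i + 1) := (mem_normalizer_iff.1 htl u).1 hu
  have h2 : t * (u * w) * t⁻¹ * (u * w)⁻¹ = t * u * t⁻¹ * u⁻¹ := by
    have e : t * w * t⁻¹ = w := by rw [htw, mul_inv_cancel_right]
    calc t * (u * w) * t⁻¹ * (u * w)⁻¹ = (t * u * t⁻¹) * (t * w * t⁻¹) * w⁻¹ * u⁻¹ := by group
      _ = t * u * t⁻¹ * u⁻¹ := by rw [e]; group
  have h3 : t * u * t⁻¹ * u⁻¹ = 1 := by
    refine hpl2 _ ?_ ((l (i + 1)).mul_mem h1 ((l (i + 1)).inv_mem hu))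
    rw [← h2]
    exact p2.mul_mem ((mem_normalizer_iff.1 htp2 _).1 huw) (p2.inv_mem huw)
  calc u * t = (t * u * t⁻¹ * u⁻¹)⁻¹ * (t * u) := by group
    _ = t * u := by rw [h3]; group

/-- **LEMMA 0 for lines** -/
theorem lem0 {i : Fin 2} (trR : ∀ R : Subgroup G, IsMinPar (S : Subgroup G) R → R ≤ CC Z i →
      ¬ R ≤ normalizer (l (i + 1) : Set G) → ∀ v ∈ V (i + 1), ∃ r ∈ R, r * v * r⁻¹ ∈ Z (i + 1)) {K A : Subgroup G}
    (hK : K ≤ CC Z i) (hn : CC Z i ≤ normalizer (K : Set G)) (hAK : A ≤ K) (hA : IsPGroup 2 A)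
    (hm : ¬ A ≤ centralizer (NN Z i : Set G)) : NN Z i ≤ NH Z i (K ⊔ (S : Subgroup G)) := by
  set H : Subgroup G := K ⊔ (S : Subgroup G) with hH
  have hHC : H ≤ CC Z i := sup_le hK (D.S_le_C i)
  have hKn : H ≤ normalizer (K : Set G) := hHC.trans hn
  by_cases hR : ∃ R : Subgroup G, IsMinPar (S : Subgroup G) R ∧ R ≤ H ∧ ¬ R ≤ normalizer (l (i + 1) : Set G)
  · -- (b)
    obtain ⟨R, hR1, hR2, hR3⟩ := hR
    have htr := trR R hR1 (hR2.trans hHC) hR3
    have hC : CC Z i ≤ K ⊔ (CC Z i ⊓ normalizer (l (i + 1) : Set G)) := by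
      have hHK : H ≤ K ⊔ (CC Z i ⊓ normalizer (l (i + 1) : Set G)) :=
        sup_le le_sup_left ((le_inf (D.S_le_C i) (D.Sl _)).trans le_sup_right)
      refine MinSimple.MinParabolic.le_of_forall (D.S_le_C i) ?_ fun R' hR' hR'C => ?_
      · rintro n ⟨hn1, hn2⟩
        exact le_sup_right (a := K) (mem_inf.2 ⟨hn1, (D.nS_conf hn1 hn2).1.1.2⟩)
      · by_cases h1 : R' ≤ normalizer (l (i + 1) : Set G)
        · exact (le_inf hR'C h1).trans le_sup_right
        · intro r' hr'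
          obtain ⟨m, hm1, hm2⟩ := D.exists_ne (i + 1)
          have h2 : r' * m * r'⁻¹ ∈ V (i + 1) :=
            (mem_normalizer_iff.1 (D.par_V hR' hR'C h1 (i + 1) hr') m).1 (D.ZV _ hm1)
          obtain ⟨r, hr, h3⟩ := htr _ h2
          have h4 : MulAut.conj (r * r') • l (i + 1) = l (i + 1) := by
            refine D.fuse_eq (D.Zl _ hm1) hm2 ?_
            have e : (r * r') * m * (r * r')⁻¹ = r * (r' * m * r'⁻¹) * r⁻¹ := by group
            rw [e]
            exact D.Zl _ h3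
          have h5 : r * r' ∈ CC Z i ⊓ normalizer (l (i + 1) : Set G) :=
            ⟨(CC Z i).mul_mem (hHC (hR2 hr)) (hR'C hr'), mem_norm_iff.2 h4⟩
          have e : r' = r⁻¹ * (r * r') := by group
          rw [e]
          exact mul_mem (hHK (inv_mem (hR2 hr))) (le_sup_right (a := K) h5)
    -- `l j ≤ ⟨Z j ^ H⟩`
    have hl : l (i + 1) ≤ NH Z i H := by
      intro v hv
      obtain ⟨r, hr, h1⟩ := htr v (D.lV _ hv)
      have h2 := FlagNO.conj_mem_V (inv_mem (hR2 hr)) h1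
      have e : r⁻¹ * (r * v * r⁻¹) * r⁻¹⁻¹ = v := by group
      rwa [e] at h2
    refine FlagNO.V_le_elem fun c hc z hz => ?_
    obtain ⟨k, hk, m, ⟨hm1, hm2⟩, rfl⟩ := exists_mul_of_mem_sup
      ((inf_le_left : CC Z i ⊓ normalizer (l (i + 1) : Set G) ≤ CC Z i).trans hn) (hC hc)
    have h1 : m * z * m⁻¹ ∈ l (i + 1) := (mem_normalizer_iff.1 hm2 z).1 (D.Zl _ hz)
    have h2 := (mem_normalizer_iff.1 (le_normalizer_V (Z (i + 1)) H (le_sup_left (a := K) hk)) _).1 (hl h1)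
    have e : k * m * z * (k * m)⁻¹ = k * (m * z * m⁻¹) * k⁻¹ := by group
    rw [e]
    exact h2
  · -- (a)
    push Not at hR
    exfalso
    have hHl : H ≤ normalizer (l (i + 1) : Set G) := by
      refine MinSimple.MinParabolic.le_of_forall (le_sup_right : (S : Subgroup G) ≤ H) ?_ fun R hR1 hR2 => hR R hR1 hR2
      rintro n ⟨hn1, hn2⟩
      exact (D.nS_conf (hHC hn1) hn2).1.1.2
    have hcl : ∀ t ∈ (S : Subgroup G) ⊓ K, t ∈ centralizer (l (i + 1) : Set G) := by
      rintro t ⟨htS, htK⟩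
      refine D.cent_of_points htS fun c hc => ?_
      have h1 : c⁻¹ * t * c ∈ K := by
        have := (mem_normalizer_iff.1 (hn (inv_mem hc)) t).1 htK
        rwa [inv_inv] at this
      have h2 : MulAut.conj (c⁻¹ * t * c) • l (i + 1) = l (i + 1) :=
        conj_eq_of_mem (hHl (le_sup_left (a := K) h1))
      rw [mem_norm_iff, conj_conj]
      have e : t * c = c * (c⁻¹ * t * c) := by group
      rw [e, ← conj_conj, h2]
    -- every 2-subgroup of `K` centralises `l j`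
    have hA' : ∀ B : Subgroup G, B ≤ K → IsPGroup 2 B → B ≤ centralizer (l (i + 1) : Set G) := by
      intro B hB hB2
      obtain ⟨R, hR1, hBR⟩ := exists_syl hB2 (hB.trans (le_sup_left : K ≤ H))
      obtain ⟨x, hx, hxR⟩ := syl_conj hR1 (D.syl (le_sup_right : (S : Subgroup G) ≤ H))
      intro b hb
      have h1 : x * b * x⁻¹ ∈ (S : Subgroup G) := by
        rw [← hxR]
        exact mem_map_of_mem _ (hBR hb)
      have h2 : x * b * x⁻¹ ∈ K := (mem_normalizer_iff.1 (hKn hx) b).1 (hB hb)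
      have h3 := hcl _ ⟨h1, h2⟩
      have h4 := (mem_normalizer_iff.1 (norm_cent (A := H) hHl (inv_mem hx)) _).1 h3
      have e : x⁻¹ * (x * b * x⁻¹) * x⁻¹⁻¹ = b := by group
      rwa [e] at h4
    apply hm
    refine comm_symm (FlagNO.V_le_elem fun c hc z hz => ?_)
    rw [mem_centralizer_iff]
    intro a ha
    have h1 : MulAut.conj c⁻¹ • A ≤ centralizer (l (i + 1) : Set G) := by
      refine hA' _ ?_ (hA.map _)
      have h2 : MulAut.conj c⁻¹ • K = K := conj_eq_of_mem (hn (inv_mem hc))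
      rw [← h2]
      exact conj_le_iff.2 hAK
    have h2 : c⁻¹ * a * c ∈ MulAut.conj c⁻¹ • A := by
      rw [mem_conj]
      have e : c⁻¹⁻¹ * (c⁻¹ * a * c) * c⁻¹ = a := by group
      rw [e]
      exact ha
    have h3 := mem_centralizer_iff.1 (h1 h2) z (D.Zl _ hz)
    calc a * (c * z * c⁻¹) = c * ((c⁻¹ * a * c) * z) * c⁻¹ := by group
      _ = c * (z * (c⁻¹ * a * c)) * c⁻¹ := by rw [h3]
      _ = c * z * c⁻¹ * a := by group

end LFr

end Cfsg.Agent.Omega.KL.TwoZ.Line
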