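import Cfsg.Agent.Mrg.Omega.KL.GLine.GSt
import Cfsg.Agent.Mrg.Omega.KL.GLine.Lem0


/-!
# (G1) over the lines (bb #24444 (C), (F4)): `LFr` ⇒ `PT.ThmC2 l (PT.XW l V)`

* `LFr.sep` : (0.2) modulo the line; **`LFr.gst`** : 853's frame `LFr` gives `GSt`;
* `LFr.dis_of` : `V i ∩ N_i l i = l i` from the tori, `V i ≰ N_i` and an element of `C_S(l i)` which moves `V i`;
* **`LFr.g1`**, **`LFr.thmC2`** : (G1) over the lines.
-/

set_option autoImplicit false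
set_option linter.unusedSectionVars false

namespace Cfsg.Agent.Omega.KL.TwoZ.Line

open Subgroup Cfsg Cfsg.Agent.Omega.MinPar
open Cfsg.Agent.ZN (o2 zc)
open Cfsg.Agent.Omega.OM.KTwo (ne_add_one eq_add_one add_one_add_one le_normalizer_V le_V exists_mul_of_mem_sup)
open Cfsg.Agent.MinSimple.MinParabolic (IsMinPar)
open Cfsg.Agent.Omega.NoFF.Basic (conj_conj mem_conj conj_le_iff comm_symm comm_mono Z_le_V V_le conj_le_centralizer)
open Cfsg.Agent.Omega.NOThreeL.Pair (conj_eq_of_mem conj_le_normalizer)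
open Cfsg.Agent.ZN.ChoiceSit (Syl exists_syl syl_conj o2_le_syl syl_not_dvd)
open Cfsg.Agent.MinSimple.VModule (mem_zc zc_le le_o2 o2_isPGroup o2_le zc_le_centralizer le_centralizer_zc
  le_normalizer_o2)
open Cfsg.Agent.Omega.TC.LemZ (card_eq le_norm_of norm_cent norm_inf)
open Cfsg.Agent.Omega.KL.TwoZ (CC V_le_of norm_V)
open Cfsg.Agent.Omega.KL.GLine (GSt)
open Cfsg.Agent.Omega.OM
open scoped Pointwise

universe u

variable {G : Type u} [Group G]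

namespace LFr

variable [Finite G] {S : Sylow 2 G} {V Z l : Fin 2 → Subgroup G} (D : LFr S V Z l)

include D

theorem mem_l01 {i : Fin 2} {a b : G} (ha : a ∈ l i) (hb : b ∈ l (i + 1)) : a * b ∈ l 0 ⊔ l 1 := by
  rcases Fin.exists_fin_two.1 ⟨i, rfl⟩ with e | e
  · subst e; exact mul_mem (mem_sup_left ha) (mem_sup_right hb)
  · subst e; exact mul_mem (mem_sup_right ha) (mem_sup_left hb)

/-- **(0.2) modulo the line** -/
theorem sepl (i : Fin 2) : ∀ c ∈ CC Z i, ∀ m ∈ Z (i + 1), c * m * c⁻¹ * m⁻¹ ∈ l i → c * m * c⁻¹ = m := by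
  intro c hc m hm h
  set e := c * m * c⁻¹ * m⁻¹ with he
  have hx : c * m * c⁻¹ = e * m := by rw [he]; group
  have h1 : c * m * c⁻¹ ∈ MulAut.conj c • l (i + 1) := conj_mem (D.Zl _ hm)
  have h2 : c * m * c⁻¹ ∈ l 0 ⊔ l 1 := by
    rw [hx]
    exact D.mem_l01 h (D.Zl _ hm)
  have h3 : c * m * c⁻¹ ∈ l 0 ∨ c * m * c⁻¹ ∈ l 1 := D.fus2 _ ⟨i + 1, c, rfl⟩ _ h1 h2
  have h4 : c * m * c⁻¹ ∈ l i ∨ c * m * c⁻¹ ∈ l (i + 1) := by
    rcases Fin.exists_fin_two.1 ⟨i, rfl⟩ with e | e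
    · subst e; exact h3
    · subst e; exact h3.symm
  rcases h4 with h4 | h4
  · have h5 : m ∈ l i := by
      have h6 := mul_mem (inv_mem h) h4
      rw [hx, inv_mul_cancel_left] at h6
      exact h6
    have h7 : m = 1 := D.dis' (ne_add_one i) (D.lV i h5) (D.ZV _ hm)
    rw [h7]; group
  · have h5 : e ∈ l (i + 1) := by
      have h6 := mul_mem h4 (inv_mem (D.Zl _ hm))
      rw [hx, mul_inv_cancel_right] at h6
      exact h6
    have h7 : e = 1 := D.dis' (ne_add_one i) (D.lV i h) (D.lV _ h5)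
    rw [hx, h7, one_mul]

theorem XW_conj_eq {i : Fin 2} {g : G} (hg : g ∈ normalizer (l i : Set G)) :
    MulAut.conj g • PT.XW l V (l i) = PT.XW l V (l i) := by
  rw [← PT.XW_conj, conj_eq_of_mem hg]

theorem V_le_XW (i : Fin 2) : V i ≤ PT.XW l V (l i) :=
  le_trans (le_iSup (fun x : {x : Subgroup G // PT.LnOn l V (l i) x} => (x : Subgroup G)) ⟨V i, PT.lnOn l V i⟩)
    le_sup_right

theorem TN_le_XW (i : Fin 2) : TwoZ.NN Z i ≤ PT.XW l V (l i) := by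
  rw [← D.NN_eq i]
  exact le_sup_left

theorem XW_le_S (i : Fin 2) : PT.XW l V (l i) ≤ (S : Subgroup G) := (D.xw_le i).trans (D.PQ_le_S i)

/-- **the one-sided frame** -/
theorem gst {i : Fin 2} {B : Subgroup G} (hK : IsKGroup (CC Z i)) (dis : V i ⊓ (TwoZ.NN Z i ⊔ l i) ≤ l i)
    (sqB : ∀ b ∈ B, b ^ 2 = 1) (BO : B ≤ o2 (CC Z i ⊓ CC Z (i + 1))) (BV : B ≤ o2 (TwoZ.HH (S : Subgroup G) V i))
    (ex : (centralizer (B : Set G)).relIndex (TwoZ.NN Z i) ≤ (centralizer (TwoZ.NN Z i : Set G)).relIndex B)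
    (mv : ¬ B ≤ centralizer (TwoZ.NN Z i : Set G)) :
    GSt (CC Z i) (S : Subgroup G) (V i) (l i) (Z (i + 1)) (PT.XW l V (l i)) B where
  syl := D.syl (D.S_le_C i)
  KC := hK
  CE := D.C_le_N i
  CX := by
    intro c hc
    exact mem_norm_iff.2 (D.XW_conj_eq (D.C_le_N i hc))
  XC := (D.XW_le_S i).trans (D.S_le_C i)
  sqX := (NO3S.EThree.ExactA.eab_iff.1 (D.xw_eab i)).2
  EV := D.lV i
  VX := D.V_le_XW i
  NX := D.TN_le_XW i
  VC := centralizer_le (D.ZV i)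
  TZ := D.S_le_C (i + 1)
  TV := D.nV i
  root := by
    intro t ht htl w hw
    have h1 := inv_mem (D.root i w hw t ht htl)
    have e : (w * t * w⁻¹ * t⁻¹)⁻¹ = t * w * t⁻¹ * w⁻¹ := by group
    rwa [e] at h1
  nT := by
    rintro n ⟨hn, hnS⟩
    have h1 := D.nS_conf (mem_inf.1 ⟨hn, hnS⟩).1 hnS
    refine ⟨?_, h1.1.2⟩
    have key : ∀ m ∈ CC Z i ⊓ normalizer ((S : Subgroup G) : Set G), ∀ z ∈ Z (i + 1), m * z * m⁻¹ ∈ Z (i + 1) := by
      rintro m ⟨hm, hmS⟩ z hz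
      have h2 := D.nS_conf hm hmS
      refine D.lZ (i + 1) _ ((mem_normalizer_iff.1 h2.1.1.2 z).1 (D.Zl _ hz)) ?_
      rw [mem_centralizer_iff]
      intro s hs
      have h3 : m⁻¹ * s * m ∈ (S : Subgroup G) := by
        have h4 := (mem_normalizer_iff.1 (inv_mem hmS) s).1 hs
        rwa [inv_inv] at h4
      have h5 := mem_centralizer_iff.1 (D.Z_cent_S (i + 1) hz) _ h3
      calc s * (m * z * m⁻¹) = m * ((m⁻¹ * s * m) * z) * m⁻¹ := by group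
        _ = m * (z * (m⁻¹ * s * m)) * m⁻¹ := by rw [h5]
        _ = m * z * m⁻¹ * s := by group
    refine mem_normalizer_iff.2 fun z => ⟨key n ⟨hn, hnS⟩ z, fun hz => ?_⟩
    have h2 := key n⁻¹ (inv_mem (mem_inf.2 ⟨hn, hnS⟩)) _ hz
    have e : n⁻¹ * (n * z * n⁻¹) * n⁻¹⁻¹ = z := by group
    rwa [e] at h2
  uni := by
    intro R hR hRC hRm
    by_cases h : R ≤ normalizer (l (i + 1) : Set G)
    · have hc : ¬ R ≤ centralizer (zc (S : Subgroup G) : Set G) := fun hc =>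
        hRm (hc.trans (centralizer_le (D.Z_le_zc (i + 1))))
      obtain ⟨z, hz, hz1⟩ := D.exists_ne i
      have hRz : R ≤ centralizer ({z} : Set G) := hRC.trans (centralizer_le (Set.singleton_subset_iff.2 hz))
      first
        | exact (D.uni R hR (D.o2_ne hz hz1 hR.le hRz) hc).1 i
        | exact (D.uni R hR hc).1 i
        | exact (D.uni R hR (D.o2_ne hz hz1 hR.le hRz) hc).1 i
        | exact (D.uni i z hz hz1 R hR hRz hc).1 i
    · exact D.par_V hR hRC h i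
  sep := D.sepl i
  dis := dis
  sqB := sqB
  BO := BO
  BV := BV
  ex := ex
  mv := mv

/-- **(G1) over the lines** -/
theorem g1 (hML : ML.Final.MLK.{u, u}) (hE : ML.Ex.Two.Ext.{u, u}) {i : Fin 2} {B : Subgroup G}
    (hK : IsKGroup (CC Z i)) (dis : V i ⊓ (TwoZ.NN Z i ⊔ l i) ≤ l i)
    (trR : ∀ R : Subgroup G, IsMinPar (S : Subgroup G) R → R ≤ CC Z i →
      ¬ R ≤ normalizer (l (i + 1) : Set G) → ∀ v ∈ V (i + 1), ∃ r ∈ R, r * v * r⁻¹ ∈ Z (i + 1))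
    (sqB : ∀ b ∈ B, b ^ 2 = 1) (BO : B ≤ o2 (CC Z i ⊓ CC Z (i + 1))) (BV : B ≤ o2 (TwoZ.HH (S : Subgroup G) V i))
    (ex : (centralizer (B : Set G)).relIndex (TwoZ.NN Z i) ≤ (centralizer (TwoZ.NN Z i : Set G)).relIndex B)
    (mv : ¬ B ≤ centralizer (TwoZ.NN Z i : Set G)) {A : Subgroup G} (hA : A ≤ centralizer (l i : Set G))
    (hA2 : IsPGroup 2 A)
    (h : ∀ a ∈ A, ∀ x ∈ PT.XW l V (l i), a * x * a⁻¹ * x⁻¹ ∈ TwoZ.NN Z i ⊔ l i) :
    A ≤ centralizer (TwoZ.NN Z i : Set G) :=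
  (D.gst hK dis sqB BO BV ex mv).g1 hML hE
    (fun _ _ hKC hn hAK hA2 hm => D.lem0 trR hKC hn hAK hA2 hm) (hA.trans (D.cl_le i)) hA hA2 h

/-- **(G1) over the lines, points level** -/
theorem thmC2_of (hG : ∀ i, ∀ A : Subgroup G, A ≤ centralizer (l i : Set G) → IsPGroup 2 A →
    (∀ a ∈ A, ∀ x ∈ PT.XW l V (l i), a * x * a⁻¹ * x⁻¹ ∈ TwoZ.NN Z i ⊔ l i) → A ≤ centralizer (TwoZ.NN Z i : Set G)) :
    PT.ThmC2 l (PT.XW l V) := by
  rintro _ ⟨i, k, rfl⟩ B hB hBc hcom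
  have h1 : MulAut.conj k⁻¹ • B ≤ centralizer (l i : Set G) := by
    have h2 := conj_le_centralizer (g := k⁻¹) hBc
    rwa [conj_conj, inv_mul_cancel, map_one, one_smul] at h2
  have h3 := hG i (MulAut.conj k⁻¹ • B) h1 (hB.of_equiv (Subgroup.equivSMul (MulAut.conj k⁻¹) B)) ?_
  · have h4 := conj_le_centralizer (g := k) h3
    rwa [conj_conj, mul_inv_cancel, map_one, one_smul, ← D.NN_eq i, ← PT.NN_conj] at h4
  · intro a ha x hx
    rw [mem_conj, inv_inv] at ha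
    have hx' : k * x * k⁻¹ ∈ PT.XW l V (MulAut.conj k • l i) := by
      rw [PT.XW_conj]
      exact conj_mem hx
    have h5 := hcom _ hx' _ ha
    rw [PT.NN_conj, D.NN_eq i, mem_conj] at h5
    have e : k⁻¹ * (k * x * k⁻¹ * (k * a * k⁻¹) * (k * x * k⁻¹)⁻¹ * (k * a * k⁻¹)⁻¹) * k = (a * x * a⁻¹ * x⁻¹)⁻¹ := by
      group
    rw [e] at h5
    have h6 := inv_mem h5
    rw [inv_inv] at h6
    exact mem_sup_left h6

/-- **(G1) over the lines, points level**, from the exact groups of EX -/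
theorem thmC2 (hML : ML.Final.MLK.{u, u}) (hE : ML.Ex.Two.Ext.{u, u}) (hK : ∀ i, IsKGroup (CC Z i))
    (dis : ∀ i, V i ⊓ (TwoZ.NN Z i ⊔ l i) ≤ l i)
    (trR : ∀ i, ∀ R : Subgroup G, IsMinPar (S : Subgroup G) R → R ≤ CC Z i →
      ¬ R ≤ normalizer (l (i + 1) : Set G) → ∀ v ∈ V (i + 1), ∃ r ∈ R, r * v * r⁻¹ ∈ Z (i + 1))
    (hB : ∀ i, ∃ B : Subgroup G, (∀ b ∈ B, b ^ 2 = 1) ∧ B ≤ o2 (CC Z i ⊓ CC Z (i + 1)) ∧
      B ≤ o2 (TwoZ.HH (S : Subgroup G) V i) ∧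
      (centralizer (B : Set G)).relIndex (TwoZ.NN Z i) ≤ (centralizer (TwoZ.NN Z i : Set G)).relIndex B ∧
      ¬ B ≤ centralizer (TwoZ.NN Z i : Set G)) : PT.ThmC2 l (PT.XW l V) :=
  D.thmC2_of fun i A hA hA2 h => by
    obtain ⟨B, h1, h2, h3, h4, h5⟩ := hB i
    exact D.g1 hML hE (hK i) (dis i) (trR i) h1 h2 h3 h4 h5 hA hA2 h

/-- `V i ∩ N_i l i = l i` -/
theorem dis_of {i : Fin 2} (torZ : ∀ x ∈ l i, x ≠ 1 → ∀ y ∈ l i, y ≠ 1 → ∃ h : G, h ∈ centralizer (V (i + 1) : Set G) ∧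
      MulAut.conj h • l i = l i ∧ h * x * h⁻¹ = y)
    (torU : ∀ x ∈ V i, x ∉ l i → ∀ y ∈ V i, y ∉ l i → ∃ h : G, h ∈ centralizer (V (i + 1) : Set G) ∧
      MulAut.conj h • l i = l i ∧ MulAut.conj h • V i = V i ∧ y⁻¹ * (h * x * h⁻¹) ∈ l i)
    (hVN : ¬ V i ≤ TwoZ.NN Z i)
    (hmv : ∃ a ∈ (S : Subgroup G), a ∈ centralizer (l i : Set G) ∧ a ∉ centralizer (V i : Set G)) :
    V i ⊓ (TwoZ.NN Z i ⊔ l i) ≤ l i := by
  rintro x ⟨hxV, hxN⟩
  by_contra hxl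
  apply hVN
  have hNn : normalizer (l i : Set G) ≤ normalizer (TwoZ.NN Z i : Set G) := by
    rw [← D.NN_eq i]
    exact D.HH_norm_NN i
  have hlN : l i ≤ normalizer (TwoZ.NN Z i : Set G) := le_normalizer.trans hNn
  -- all of `V i` lies in `N_i l i`
  have h1 : V i ≤ TwoZ.NN Z i ⊔ l i := by
    intro y hy
    by_cases hyl : y ∈ l i
    · exact mem_sup_right hyl
    obtain ⟨h, -, hl, -, hyh⟩ := torU x hxV hxl y hy hyl
    obtain ⟨n, hn, e, he, rfl⟩ := exists_mul_of_mem_sup hlN hxN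
    have hhl : h ∈ normalizer (l i : Set G) := mem_norm_iff.2 hl
    have h2 : h * (n * e) * h⁻¹ ∈ TwoZ.NN Z i ⊔ l i := by
      have e1 : h * (n * e) * h⁻¹ = (h * n * h⁻¹) * (h * e * h⁻¹) := by group
      rw [e1]
      exact mul_mem (mem_sup_left ((mem_normalizer_iff.1 (hNn hhl) n).1 hn))
        (mem_sup_right ((mem_normalizer_iff.1 hhl e).1 he))
    have e2 : y = (h * (n * e) * h⁻¹) * (y⁻¹ * (h * (n * e) * h⁻¹))⁻¹ := by group
    rw [e2]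
    exact mul_mem h2 (mem_sup_right (inv_mem hyh))
  -- an element of `l i ∩ N_i`
  obtain ⟨a, haS, hal, haV⟩ := hmv
  have haN : a ∈ normalizer (TwoZ.NN Z i : Set G) := hNn (centralizer_le_normalizer _ hal)
  have h2 : ∀ v ∈ V i, v * a * v⁻¹ * a⁻¹ ∈ TwoZ.NN Z i := by
    intro v hv
    obtain ⟨n, hn, e, he, rfl⟩ := exists_mul_of_mem_sup hlN (h1 hv)
    have h3 : e * a = a * e := mem_centralizer_iff.1 hal e he
    have e1 : n * e * a * (n * e)⁻¹ * a⁻¹ = n * (e * a) * e⁻¹ * n⁻¹ * a⁻¹ := by group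
    have e2 : n * (a * e) * e⁻¹ * n⁻¹ * a⁻¹ = n * (a * n⁻¹ * a⁻¹) := by group
    rw [e1, h3, e2]
    exact mul_mem hn ((mem_normalizer_iff.1 haN _).1 (inv_mem hn))
  have h3 : ∃ v ∈ V i, v * a * v⁻¹ * a⁻¹ ≠ 1 := by
    by_contra hc
    push Not at hc
    apply haV
    rw [mem_centralizer_iff]
    intro v hv
    have h4 := hc v hv
    have e1 : v * a = (v * a * v⁻¹ * a⁻¹) * (a * v) := by group
    rw [e1, h4, one_mul]
  obtain ⟨v, hv, hv1⟩ := h3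
  have hzl := D.root i v hv a haS hal
  have hzN := h2 v hv
  have h4 : l i ≤ TwoZ.NN Z i := by
    intro y hy
    by_cases hy1 : y = 1
    · rw [hy1]; exact one_mem _
    obtain ⟨h, -, hl, hhy⟩ := torZ _ hzl hv1 y hy hy1
    rw [← hhy]
    exact (mem_normalizer_iff.1 (hNn (mem_norm_iff.2 hl)) _).1 hzN
  exact h1.trans (sup_le le_rfl h4)

end LFr

end Cfsg.Agent.Omega.KL.TwoZ.Line
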