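import Cfsg.Agent.Mrg.Omega.KL.TwoM.Inp
import Cfsg.Agent.Mrg.Omega.KL.TwoM.NoE
import Cfsg.Agent.Mrg.Omega.KL.TwoZ.LineM
import Cfsg.Agent.Mrg.Omega.KL.TwoZ.LineI
import Cfsg.Agent.Mrg.Omega.KL.TwoZ.LineK3
import Cfsg.Agent.Mrg.Omega.KL.TwoZ.GE
import Cfsg.Agent.Mrg.Omega.KL.GLine.LFG


/-!
# Two natural blocks with field automorphisms: the exact group, (G1), (G3), LEMMA 0 over `LFr`

* `TwoM.Fr.g2M`, `g_conjM`, **`g3M`** : (G2), (G3) from (G1) for maximal groups;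
* `LFr.exists_B` : the exact group `B = C_A(U_i)`; `LFr.exists_mxV`, `LFr.not_V_le`;
* `LFr.tr_irr` : a minimal parabolic `R ≤ C_i` which moves the line `l (i+1)` is transitive on the lines in
  `V (i+1)`, and `V (i+1) ≤ ⟨Z (i+1) ^ R⟩`; **`LFr.lem0F`** : LEMMA 0;
* **`LFr.thmC2F`** : (G1) over the lines; **`LFr.g3F`** : (G3); **`LFrW.dead`**.
-/

set_option autoImplicit false
set_option linter.unusedSectionVars false
set_option linter.unusedVariables false
set_option linter.unreachableTactic false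
set_option linter.unusedTactic false

namespace Cfsg.Agent.Omega.KL.TwoM

open Subgroup Cfsg Cfsg.Agent.Omega.MinPar
open Cfsg.Agent.ZN (o2 zc)
open Cfsg.Agent.Omega.OM.KTwo (ne_add_one eq_add_one add_one_add_one le_normalizer_V le_V exists_mul_of_mem_sup)
open Cfsg.Agent.Omega.NoFF.Basic (conj_conj mem_conj conj_le_iff comm_symm comm_mono Z_le_V V_le)
open Cfsg.Agent.Omega.NOThreeL.Pair (conj_eq_of_mem conj_le_normalizer)
open Cfsg.Agent.Omega.NoFF.ThmJFam (card_sup_inf card_conj conj_cent conj_inf)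
open Cfsg.Agent.MinSimple.VModule (mem_zc zc_le normalizer_le_normalizer_zc le_o2
  o2_isPGroup o2_le zc_le_centralizer le_centralizer_zc le_normalizer_o2)
open Cfsg.Agent.Omega.TC.LemZ (card_eq le_norm_of norm_cent norm_inf)
open Cfsg.Agent.Omega.KL.TwoS (Mx comm_of_sq sq_sup relIndex_le_of_sup sup_of_relIndex_le relIndex_pos relIndex_mono
  relIndex_anti relIndex_split)
open Cfsg.Agent.Omega.KL.TwoZ (CC QQ NH NN WW UU HH GOneM comm_le_of_sup)
open scoped Pointwise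

universe u

variable {G : Type u} [Group G]

namespace Fr

variable [Finite G] {T : Subgroup G} {V Z : Fin 2 → Subgroup G}

/-- **(G2)** `A` maximal in `O` moves `N_i` : `C_A(N_i)` moves `W_i` -/
theorem g2M (D : Fr T V Z) (hML : ML.Final.MLK.{u, u}) {i : Fin 2} (hK : IsKGroup (CC Z i)) (hG : GOneM T V Z i)
    {A : Subgroup G} (hA : Mx (o2 (centralizer (zc T : Set G))) A) (hm : ¬ A ≤ centralizer (NN Z i : Set G)) :
    ¬ A ⊓ centralizer (NN Z i : Set G) ≤ centralizer (WW V Z i : Set G) := by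
  intro hc0
  apply hm
  obtain ⟨h1, h2, h3, -⟩ := D.X_facts i
  have hc : A ⊓ centralizer (NN Z i : Set G) ≤ centralizer ((WW V Z i ⊔ NN Z i : Subgroup G) : Set G) :=
    comm_symm (sup_le (comm_symm hc0) (comm_symm inf_le_right))
  have hXc : WW V Z i ⊔ NN Z i ≤ centralizer ((WW V Z i ⊔ NN Z i : Subgroup G) : Set G) := comm_of_sq h2
  have h7 : (centralizer (A : Set G)).relIndex (WW V Z i ⊔ NN Z i) ≤ (centralizer (A : Set G)).relIndex (NN Z i) := by
    refine (hA.thom (h1.trans (D.Q_le_O i)) h2).trans ?_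
    rw [← (D.mx hML hK hA).1]
    have e1 : (A ⊓ centralizer (NN Z i : Set G)).relIndex A = (centralizer (NN Z i : Set G)).relIndex A :=
      inf_relIndex_left _ _
    rw [← e1]
    exact relIndex_anti hc
  have h8 := sup_of_relIndex_le le_sup_right hXc h7
  have hAC : A ≤ CC Z i := (hA.le.trans D.O_le_T).trans (D.T_le_C i)
  refine hG A hA fun a ha x hx => ?_
  have hNX : NN Z i ≤ WW V Z i ⊔ NN Z i := le_sup_right
  exact comm_le_of_sup (N := NN Z i) (hAC.trans (le_normalizer_V (Z (i + 1)) (CC Z i))) h8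
    ((hXc.trans (centralizer_le hNX)).trans (centralizer_le_normalizer _)) a ha x hx

/-- `A` maximal in `O` moves `N_i` : some maximal `A' ≤ Q_i` moves `V i` -/
theorem g_conjM (D : Fr T V Z) (hML : ML.Final.MLK.{u, u}) {i : Fin 2} (hK : IsKGroup (CC Z i)) (hG : GOneM T V Z i)
    {A : Subgroup G} (hA : Mx (o2 (centralizer (zc T : Set G))) A) (hm : ¬ A ≤ centralizer (NN Z i : Set G)) :
    ∃ B : Subgroup G, Mx (o2 (centralizer (zc T : Set G))) B ∧ B ≤ QQ Z i ∧ ¬ B ≤ centralizer (V i : Set G) := by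
  by_contra hcon
  push Not at hcon
  apply D.g2M hML hK hG hA hm
  obtain ⟨-, h1, h2⟩ := D.mx hML hK hA
  have h3 : WW V Z i ≤ centralizer ((A ⊓ centralizer (NN Z i : Set G) ⊔ NN Z i : Subgroup G) : Set G) := by
    refine V_le fun c hc => ?_
    have e1 : MulAut.conj c⁻¹ • QQ Z i = QQ Z i := conj_eq_of_mem (le_normalizer_o2 _ (inv_mem hc))
    have h4 : MulAut.conj c⁻¹ • (A ⊓ centralizer (NN Z i : Set G) ⊔ NN Z i) ≤ QQ Z i := by
      rw [← e1]; exact conj_le_iff.2 h2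
    have h5 := comm_symm (hcon _ (h1.conj (h4.trans (D.Q_le_O i))) h4)
    have h6 : MulAut.conj c • V i ≤ MulAut.conj c • centralizer
        ((MulAut.conj c⁻¹ • (A ⊓ centralizer (NN Z i : Set G) ⊔ NN Z i) : Subgroup G) : Set G) := conj_le_iff.2 h5
    rwa [conj_cent, conj_conj, mul_inv_cancel, map_one, one_smul] at h6
  exact le_sup_left.trans (comm_symm h3)

/-- (nonlocality) some maximal `A` moves `N_0` or `N_1` -/
theorem exists_move_N (D : Fr T V Z) : ∃ (i : Fin 2) (A : Subgroup G), Mx (o2 (centralizer (zc T : Set G))) A ∧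
    ¬ A ≤ centralizer (NN Z i : Set G) := by
  by_contra hcon
  push Not at hcon
  have hQ : ∀ i A, Mx (o2 (centralizer (zc T : Set G))) A → A ≤ QQ Z i := fun i A hA =>
    (le_inf hA.le (hcon i A hA)).trans (D.O_inf_le i)
  set J : Subgroup G := ⨆ A : {A : Subgroup G // Mx (o2 (centralizer (zc T : Set G))) A}, (A : Subgroup G) with hJ
  have hJO : J ≤ o2 (centralizer (zc T : Set G)) := iSup_le fun A => A.2.le
  have hinv : ∀ (i : Fin 2), CC Z i ≤ normalizer (J : Set G) := by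
    intro i
    refine le_norm_of fun g hg x hx => ?_
    have h2 : J ≤ MulAut.conj g⁻¹ • J := by
      refine iSup_le fun A => ?_
      have e1 : MulAut.conj g • QQ Z i = QQ Z i := conj_eq_of_mem (le_normalizer_o2 _ hg)
      have hAg : MulAut.conj g • (A : Subgroup G) ≤ QQ Z i := by rw [← e1]; exact conj_le_iff.2 (hQ i _ A.2)
      have h3 : MulAut.conj g • (A : Subgroup G) ≤ J :=
        le_iSup (fun A : {A : Subgroup G // Mx (o2 (centralizer (zc T : Set G))) A} => (A : Subgroup G))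
          ⟨_, A.2.conj (hAg.trans (D.Q_le_O i))⟩
      have h4 : MulAut.conj g⁻¹ • (MulAut.conj g • (A : Subgroup G)) ≤ MulAut.conj g⁻¹ • J := conj_le_iff.2 h3
      rwa [conj_conj, inv_mul_cancel, map_one, one_smul] at h4
    have h5 := h2 hx
    rw [mem_conj, inv_inv] at h5
    exact h5
  have hJ1 : J = ⊥ := D.nonloc' (i := 0) ((o2_isPGroup _).to_le hJO) (hinv 0) (hinv (0 + 1))
  obtain ⟨A, hA⟩ := Mx.exists_mx (o2 (centralizer (zc T : Set G)))
  have h6 : A ≤ J := le_iSup (fun A : {A : Subgroup G // Mx (o2 (centralizer (zc T : Set G))) A} => (A : Subgroup G))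
    ⟨A, hA⟩
  have h7 : NN Z 0 ≤ A := hA.le_of_comm (D.N_le_O 0) (D.N_sq 0) (comm_symm (hcon 0 A hA))
  have h8 := (le_V (Z (0 + 1)) (CC Z 0)).trans (h7.trans h6)
  rw [hJ1] at h8
  exact D.ne (0 + 1) (le_bot_iff.1 h8)

/-- a group which moves `V i` moves `N_{i+1}` -/
theorem move_N_of_V (D : Fr T V Z) {i : Fin 2} {A : Subgroup G} (hm : ¬ A ≤ centralizer (V i : Set G)) :
    ¬ A ≤ centralizer (NN Z (i + 1) : Set G) := by
  intro h
  apply hm
  have h1 := D.V_le_N (i + 1)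
  rw [add_one_add_one] at h1
  exact h.trans (centralizer_le h1)

/-- **(G3)** for both `i` some maximal `A ≤ Q_i` moves `V i` -/
theorem g3M (D : Fr T V Z) (hML : ML.Final.MLK.{u, u}) (hK : ∀ i, IsKGroup (CC Z i)) (hG : ∀ i, GOneM T V Z i)
    (i : Fin 2) :
    ∃ A : Subgroup G, Mx (o2 (centralizer (zc T : Set G))) A ∧ A ≤ QQ Z i ∧ ¬ A ≤ centralizer (V i : Set G) := by
  obtain ⟨j, A, hA, hm⟩ := D.exists_move_N
  obtain ⟨B, hB, hBQ, hBm⟩ := D.g_conjM hML (hK j) (hG j) hA hm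
  by_cases hij : i = j
  · subst hij; exact ⟨B, hB, hBQ, hBm⟩
  · obtain rfl : i = j + 1 := eq_add_one (Ne.symm hij)
    exact D.g_conjM hML (hK (j + 1)) (hG (j + 1)) hB (D.move_N_of_V hBm)

end Fr

end Cfsg.Agent.Omega.KL.TwoM

namespace Cfsg.Agent.Omega.KL.TwoZ.Line

open Subgroup Cfsg Cfsg.Agent.Omega.MinPar
open Cfsg.Agent.ZN (o2 zc)
open Cfsg.Agent.Omega.OM.KTwo (ne_add_one eq_add_one add_one_add_one le_normalizer_V le_V exists_mul_of_mem_sup)
open Cfsg.Agent.MinSimple.MinParabolic (IsMinPar)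
open Cfsg.Agent.Omega.NoFF.Basic (conj_conj mem_conj conj_le_iff comm_symm comm_mono Z_le_V V_le)
open Cfsg.Agent.Omega.NOThreeL.Pair (conj_eq_of_mem conj_le_normalizer)
open Cfsg.Agent.ZN.ChoiceSit (Syl exists_syl syl_conj o2_le_syl syl_not_dvd)
open Cfsg.Agent.MinSimple.VModule (mem_zc zc_le normalizer_le_normalizer_zc le_o2
  o2_isPGroup o2_le zc_le_centralizer le_centralizer_zc le_normalizer_o2)
open Cfsg.Agent.Omega.TC.LemZ (card_eq le_norm_of norm_cent norm_inf)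
open Cfsg.Agent.Omega.KL.TwoZ (CC QQ NH NN WW UU HH XX V_le_of norm_V norm_o2_of sq_conj sq_V GOneM)
open Cfsg.Agent.Omega.KL.TwoS (Mx comm_of_sq)
open Cfsg.Agent.Omega.KL.StarM (NoInpM)
open Cfsg.Agent.Omega.OM
open scoped Pointwise

universe u

variable {G : Type u} [Group G]

namespace LFr

variable [Finite G] {S : Sylow 2 G} {V Z l : Fin 2 → Subgroup G} (D : LFr S V Z l)

include D

/-- **the exact group** -/
theorem exists_B (hML : ML.Final.MLK.{u, u}) (hN : NoInpM.{u, u}) (hK : ∀ i, IsKGroup (CC Z i)) (i : Fin 2) :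
    ∃ B : Subgroup G, (∀ b ∈ B, b ^ 2 = 1) ∧ B ≤ o2 (CC Z i ⊓ CC Z (i + 1)) ∧
      B ≤ o2 (HH (S : Subgroup G) V i) ∧
      (centralizer (B : Set G)).relIndex (NN Z i) ≤ (centralizer (NN Z i : Set G)).relIndex B ∧
      ¬ B ≤ centralizer (NN Z i : Set G) := by
  obtain ⟨hF, -, -⟩ := D.frM.ex_false hML hN hK i
  unfold TwoZ.Fail at hF
  push Not at hF
  obtain ⟨A, hA, -, hm⟩ := hF
  obtain ⟨h5, h6, -⟩ := D.frM.ex_U hML (hK i) hA
  refine ⟨A ⊓ centralizer (UU V Z i : Set G), fun b hb => hA.sq b hb.1, ?_, h5, h6.ge, hm⟩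
  have h7 : (CC Z i ⊓ CC Z (i + 1) : Subgroup G) = centralizer (zc (S : Subgroup G) : Set G) := D.CC_inf_eq i
  rw [h7]
  exact inf_le_left.trans hA.le

/-- some maximal `A ≤ O` moves `V i` -/
theorem exists_mxV (hML : ML.Final.MLK.{u, u}) (hN : NoInpM.{u, u}) (hK : ∀ i, IsKGroup (CC Z i)) (i : Fin 2) :
    ∃ A : Subgroup G, Mx (o2 (centralizer (zc (S : Subgroup G) : Set G))) A ∧ ¬ A ≤ centralizer (V i : Set G) :=
  (D.frM.ex_false hML hN hK i).2.2

/-- `V i ≰ N_i` -/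
theorem not_V_le (hML : ML.Final.MLK.{u, u}) (hN : NoInpM.{u, u}) (hK : ∀ i, IsKGroup (CC Z i)) (i : Fin 2) :
    ¬ V i ≤ NN Z i :=
  (D.frM.ex_false hML hN hK i).2.1

/-! ### The lines in `V j` -/

/-- the line through `v ∈ V i` -/
theorem line_of (i : Fin 2) {v : G} (hv : v ∈ V i) : ∃ h ∈ normalizer (V i : Set G),
    MulAut.conj h • l i ≤ V i ∧ v ∈ MulAut.conj h • l i := by
  obtain ⟨h, -, hV, hZ⟩ := D.trV i v hv
  refine ⟨h⁻¹, inv_mem hV, ?_, ?_⟩
  · have h1 : MulAut.conj h⁻¹ • V i = V i := conj_eq_of_mem (inv_mem hV)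
    rw [← h1]
    exact conj_le_iff.2 (D.lV i)
  · rw [mem_conj, inv_inv]
    exact D.Zl i hZ

/-- two conjugates of `l i` with a common element `≠ 1` are equal -/
theorem line_eq {i : Fin 2} {g h x : G} (hx1 : x ≠ 1) (hg : x ∈ MulAut.conj g • l i)
    (hh : x ∈ MulAut.conj h • l i) : MulAut.conj g • l i = MulAut.conj h • l i := by
  have h1 : MulAut.conj (h⁻¹ * g) • l i = l i := by
    rw [mem_conj] at hg hh
    refine D.fuse_eq hg (fun e => hx1 ?_) ?_
    · have e1 : x = g * (g⁻¹ * x * g) * g⁻¹ := by group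
      rw [e1, e]; group
    · have e1 : (h⁻¹ * g) * (g⁻¹ * x * g) * (h⁻¹ * g)⁻¹ = h⁻¹ * x * h := by group
      rw [e1]; exact hh
  have h2 : MulAut.conj h • (MulAut.conj (h⁻¹ * g) • l i) = MulAut.conj h • l i := by rw [h1]
  rwa [conj_conj, mul_inv_cancel_left] at h2

/-- two different lines in `V i` generate `V i` -/
theorem line_sup {i : Fin 2} {g : G} (hg : MulAut.conj g • l i ≤ V i) (hne : MulAut.conj g • l i ≠ l i) :
    V i ≤ MulAut.conj g • l i ⊔ l i := by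
  have hdis : MulAut.conj g • l i ⊓ l i = ⊥ := by
    rw [eq_bot_iff]
    rintro x ⟨hx, hx'⟩
    by_contra hx1
    apply hne
    have h1 := D.line_eq (i := i) (g := g) (h := 1) (x := x) (fun e => hx1 (mem_bot.2 e)) hx
      (by rw [map_one, one_smul]; exact hx')
    rwa [map_one, one_smul] at h1
  have hcom : MulAut.conj g • l i ≤ centralizer (l i : Set G) :=
    hg.trans ((TwoS.comm_of_sq (D.sqV i)).trans (centralizer_le (D.lV i)))
  have h1 := NoFF.ThmJFam.card_sup_inf hcom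
  have hsup : MulAut.conj g • l i ⊔ l i ≤ V i := sup_le hg (D.lV i)
  rw [hdis, Subgroup.card_bot, mul_one, NoFF.ThmJFam.card_conj, ← D.cardV i] at h1
  exact (Subgroup.eq_of_le_of_card_ge hsup h1.ge).ge

/-- `R ≥ S` normalises `V i` and moves `l i`, `A` maximal in `O` moves `V i` : `R` is transitive on the lines in `V i`,
`V i ≤ ⟨Z i ^ R⟩` -/
theorem tr_irr {i : Fin 2} {A R : Subgroup G} (hA : Mx (o2 (centralizer (zc (S : Subgroup G) : Set G))) A)
    (hAl : A ≤ centralizer (l i : Set G)) (hm : ¬ A ≤ centralizer (V i : Set G)) (hSR : (S : Subgroup G) ≤ R)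
    (hRV : R ≤ normalizer (V i : Set G)) (hRl : ¬ R ≤ normalizer (l i : Set G)) :
    (∀ v ∈ V i, ∃ r ∈ R, r * v * r⁻¹ ∈ l i) ∧ V i ≤ NoFF.Basic.V (Z i) R := by
  have hAS : A ≤ (S : Subgroup G) := hA.le.trans D.O_le_S
  have hsqc : V i ≤ centralizer (V i : Set G) := TwoS.comm_of_sq (D.sqV i)
  -- for `v ∉ l i`, `l i = {[a, v]}`
  have hgen : ∀ v ∈ V i, v ∉ l i → ∀ e ∈ l i, ∃ a ∈ A, a * v * a⁻¹ * v⁻¹ = e := by
    intro v hv hvl
    obtain ⟨-, hcard⟩ := D.exists_gen hA hAl hm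
    have hroot : ∀ a ∈ A, a * v * a⁻¹ * v⁻¹ ∈ l i := by
      intro a ha
      have h1 := inv_mem (D.root i v hv a (hAS ha) (hAl ha))
      have e : (v * a * v⁻¹ * a⁻¹)⁻¹ = a * v * a⁻¹ * v⁻¹ := by group
      rwa [e] at h1
    set C : Subgroup A := (centralizer (V i : Set G)).subgroupOf A with hC
    let g : A ⧸ C → l i := fun q => ⟨(q.out : A) * v * ((q.out : A) : G)⁻¹ * v⁻¹, hroot _ (q.out : A).2⟩
    have hg : Function.Injective g := by
      intro q q' h
      have h2 : (q.out : A) * v * ((q.out : A) : G)⁻¹ * v⁻¹ = (q'.out : A) * v * ((q'.out : A) : G)⁻¹ * v⁻¹ :=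
        congrArg Subtype.val h
      have h3 : (q.out : A) * v * ((q.out : A) : G)⁻¹ = (q'.out : A) * v * ((q'.out : A) : G)⁻¹ := mul_right_cancel h2
      have h4 : (((q.out : A) : G)⁻¹ * (q'.out : A)) ∈ centralizer (V i : Set G) := by
        refine D.reg i _ (mul_mem (inv_mem (hAS (q.out : A).2)) (hAS (q'.out : A).2))
          (mul_mem (inv_mem (hAl (q.out : A).2)) (hAl (q'.out : A).2)) v hv hvl ?_
        calc ((q.out : A) : G)⁻¹ * (q'.out : A) * v
            = ((q.out : A) : G)⁻¹ * ((q'.out : A) * v * ((q'.out : A) : G)⁻¹) * (q'.out : A) := by group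
          _ = ((q.out : A) : G)⁻¹ * ((q.out : A) * v * ((q.out : A) : G)⁻¹) * (q'.out : A) := by rw [h3]
          _ = v * (((q.out : A) : G)⁻¹ * (q'.out : A)) := by group
      rw [← Quotient.out_eq' q, ← Quotient.out_eq' q']
      exact QuotientGroup.eq.2 (mem_subgroupOf.2 h4)
    have hcA : Nat.card (A ⧸ C) = Nat.card (l i) := by
      have h1 : Nat.card (A ⧸ C) = (centralizer (V i : Set G)).relIndex A := rfl
      have h2 := card_eq A (centralizer (V i : Set G))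
      rw [hcard, mul_comm] at h2
      rw [h1]
      exact (Nat.eq_of_mul_eq_mul_left Nat.card_pos h2).symm
    have hbij : Function.Bijective g := hg.bijective_of_nat_card_le hcA.ge
    intro e he
    obtain ⟨q, hq⟩ := hbij.2 ⟨e, he⟩
    exact ⟨(q.out : A), (q.out : A).2, congrArg Subtype.val hq⟩
  -- a line `l i ^ r ≠ l i`
  obtain ⟨r, hr, hrl⟩ := SetLike.not_le_iff_exists.1 hRl
  have hrne : MulAut.conj r • l i ≠ l i := fun h => hrl (mem_norm_iff.2 h)
  have hrV : MulAut.conj r • l i ≤ V i := by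
    have h1 : MulAut.conj r • V i = V i := conj_eq_of_mem (hRV hr)
    rw [← h1]
    exact conj_le_iff.2 (D.lV i)
  constructor
  · intro v hv
    by_cases hvl : v ∈ l i
    · exact ⟨1, one_mem _, by simpa using hvl⟩
    -- `v = u e`, `u ∈ l i ^ r`, `e ∈ l i`
    obtain ⟨u, hu, e, he, rfl⟩ := exists_mul_of_mem_sup
      (((D.lV i).trans (hsqc.trans (centralizer_le hrV))).trans (centralizer_le_normalizer _)) (D.line_sup hrV hrne hv)
    have hul : u ∉ l i := fun h => hvl (mul_mem h he)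
    obtain ⟨a, ha, hae⟩ := hgen u (hrV hu) hul e he
    have h1 : a * u * a⁻¹ = u * e := by
      have h2 : a * u * a⁻¹ = e * u := by rw [← hae]; group
      rw [h2]
      exact mem_centralizer_iff.1 (hsqc (hrV hu)) e (D.lV i he)
    refine ⟨(a * r)⁻¹, inv_mem (mul_mem (hSR (hAS ha)) hr), ?_⟩
    rw [mem_conj] at hu
    have e2 : (a * r)⁻¹ * (u * e) * (a * r)⁻¹⁻¹ = r⁻¹ * u * r := by rw [← h1]; group
    rw [e2]
    exact hu
  · obtain ⟨z, hz, hz1⟩ := D.exists_ne i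
    have hZR : Z i ≤ NoFF.Basic.V (Z i) R := le_V _ _
    have hW : R ≤ normalizer (NoFF.Basic.V (Z i) R : Set G) := le_normalizer_V _ _
    have hw : r * z * r⁻¹ ∈ NoFF.Basic.V (Z i) R := (mem_normalizer_iff.1 (hW hr) z).1 (hZR hz)
    have hwr : r * z * r⁻¹ ∈ MulAut.conj r • l i := conj_mem (D.Zl i hz)
    have hw1 : r * z * r⁻¹ ≠ 1 := fun e => hz1 (conj_eq_one_iff.1 e)
    have hwl : r * z * r⁻¹ ∉ l i := by
      intro h
      apply hrne
      have h1 := D.line_eq (i := i) (g := r) (h := 1) hw1 hwr (by rw [map_one, one_smul]; exact h)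
      rwa [map_one, one_smul] at h1
    have hl : l i ≤ NoFF.Basic.V (Z i) R := by
      intro e he
      obtain ⟨a, ha, rfl⟩ := hgen _ (hrV hwr) hwl e he
      exact mul_mem ((mem_normalizer_iff.1 (hW (hSR (hAS ha))) _).1 hw) (inv_mem hw)
    refine (D.line_sup hrV hrne).trans (sup_le ?_ hl)
    have h1 : MulAut.conj r • NoFF.Basic.V (Z i) R = NoFF.Basic.V (Z i) R := conj_eq_of_mem (hW hr)
    rw [← h1]
    exact conj_le_iff.2 hl

/-- **LEMMA 0 for lines**, from a maximal `A ≤ O` which moves `V (i+1)` -/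
theorem lem0F {i : Fin 2} {A₀ : Subgroup G} (hA₀ : Mx (o2 (centralizer (zc (S : Subgroup G) : Set G))) A₀)
    (hAl : A₀ ≤ centralizer (l (i + 1) : Set G)) (hm₀ : ¬ A₀ ≤ centralizer (V (i + 1) : Set G)) {K A : Subgroup G}
    (hK : K ≤ CC Z i) (hn : CC Z i ≤ normalizer (K : Set G)) (hAK : A ≤ K) (hA : IsPGroup 2 A)
    (hm : ¬ A ≤ centralizer (NN Z i : Set G)) : NN Z i ≤ NH Z i (K ⊔ (S : Subgroup G)) := by
  set H : Subgroup G := K ⊔ (S : Subgroup G) with hH
  have hHC : H ≤ CC Z i := sup_le hK (D.S_le_C i)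
  have hKn : H ≤ normalizer (K : Set G) := hHC.trans hn
  by_cases hR : ∃ R : Subgroup G, IsMinPar (S : Subgroup G) R ∧ R ≤ H ∧ ¬ R ≤ normalizer (l (i + 1) : Set G)
  · -- (b)
    obtain ⟨R, hR1, hR2, hR3⟩ := hR
    obtain ⟨htr, hirr⟩ := D.tr_irr hA₀ hAl hm₀ hR1.le (D.par_V hR1 (hR2.trans hHC) hR3 (i + 1)) hR3
    have hC : CC Z i ≤ K ⊔ (CC Z i ⊓ normalizer (l (i + 1) : Set G)) := by
      have hHK : H ≤ K ⊔ (CC Z i ⊓ normalizer (l (i + 1) : Set G)) :=
        sup_le le_sup_left ((le_inf (D.S_le_C i) (D.Sl _)).trans le_sup_right)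
      refine MinSimple.MinParabolic.le_of_forall (D.S_le_C i) ?_ fun R' hR' hR'C => ?_
      · rintro n ⟨hn1, hn2⟩
        exact le_sup_right (a := K) (mem_inf.2 ⟨hn1, (D.nS_conf hn1 hn2).1.1.2⟩)
      · by_cases h1 : R' ≤ normalizer (l (i + 1) : Set G)
        · exact (le_inf hR'C h1).trans le_sup_right
        · intro r' hr'
          obtain ⟨m, hm1, hm2⟩ := D.exists_ne (i + 1)
          have h2 : r' * m * r'⁻¹ ∈ V (i + 1) :=
            (mem_normalizer_iff.1 (D.par_V hR' hR'C h1 (i + 1) hr') m).1 (D.ZV _ hm1)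
          obtain ⟨r, hr, h3⟩ := htr _ h2
          have h4 : MulAut.conj (r * r') • l (i + 1) = l (i + 1) := by
            refine D.fuse_eq (D.Zl _ hm1) hm2 ?_
            have e : (r * r') * m * (r * r')⁻¹ = r * (r' * m * r'⁻¹) * r⁻¹ := by group
            rw [e]
            exact h3
          have h5 : r * r' ∈ CC Z i ⊓ normalizer (l (i + 1) : Set G) :=
            ⟨(CC Z i).mul_mem (hHC (hR2 hr)) (hR'C hr'), mem_norm_iff.2 h4⟩
          have e : r' = r⁻¹ * (r * r') := by group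
          rw [e]
          exact mul_mem (hHK (inv_mem (hR2 hr))) (le_sup_right (a := K) h5)
    -- `l j ≤ ⟨Z j ^ H⟩`
    have hl : l (i + 1) ≤ NH Z i H := by
      refine ((D.lV _).trans hirr).trans (V_le fun c hc => ?_)
      exact Z_le_V (hR2 hc)
    refine FlagNO.V_le_elem fun c hc z hz => ?_
    obtain ⟨k, hk, m, ⟨hm1, hm2⟩, rfl⟩ := exists_mul_of_mem_sup
      ((inf_le_left : CC Z i ⊓ normalizer (l (i + 1) : Set G) ≤ CC Z i).trans hn) (hC hc)
    have h1 : m * z * m⁻¹ ∈ l (i + 1) := (mem_normalizer_iff.1 hm2 z).1 (D.Zl _ hz)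
    have h2 := (mem_normalizer_iff.1 (le_normalizer_V (Z (i + 1)) H (le_sup_left (a := K) hk)) _).1 (hl h1)
    have e : k * m * z * (k * m)⁻¹ = k * (m * z * m⁻¹) * k⁻¹ := by group
    rw [e]
    exact h2
  · -- (a)
    push Not at hR
    exfalso
    have hHl : H ≤ normalizer (l (i + 1) : Set G) := by
      refine MinSimple.MinParabolic.le_of_forall (le_sup_right : (S : Subgroup G) ≤ H) ?_ fun R hR1 hR2 => hR R hR1 hR2
      rintro n ⟨hn1, hn2⟩
      exact (D.nS_conf (hHC hn1) hn2).1.1.2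
    have hcl : ∀ t ∈ (S : Subgroup G) ⊓ K, t ∈ centralizer (l (i + 1) : Set G) := by
      rintro t ⟨htS, htK⟩
      refine D.cent_of_points htS fun c hc => ?_
      have h1 : c⁻¹ * t * c ∈ K := by
        have := (mem_normalizer_iff.1 (hn (inv_mem hc)) t).1 htK
        rwa [inv_inv] at this
      have h2 : MulAut.conj (c⁻¹ * t * c) • l (i + 1) = l (i + 1) :=
        conj_eq_of_mem (hHl (le_sup_left (a := K) h1))
      rw [mem_norm_iff, conj_conj]
      have e : t * c = c * (c⁻¹ * t * c) := by group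
      rw [e, ← conj_conj, h2]
    -- every 2-subgroup of `K` centralises `l j`
    have hA' : ∀ B : Subgroup G, B ≤ K → IsPGroup 2 B → B ≤ centralizer (l (i + 1) : Set G) := by
      intro B hB hB2
      obtain ⟨R, hR1, hBR⟩ := exists_syl hB2 (hB.trans (le_sup_left : K ≤ H))
      obtain ⟨x, hx, hxR⟩ := syl_conj hR1 (D.syl (le_sup_right : (S : Subgroup G) ≤ H))
      intro b hb
      have h1 : x * b * x⁻¹ ∈ (S : Subgroup G) := by
        rw [← hxR]
        exact mem_map_of_mem _ (hBR hb)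
      have h2 : x * b * x⁻¹ ∈ K := (mem_normalizer_iff.1 (hKn hx) b).1 (hB hb)
      have h3 := hcl _ ⟨h1, h2⟩
      have h4 := (mem_normalizer_iff.1 (norm_cent (A := H) hHl (inv_mem hx)) _).1 h3
      have e : x⁻¹ * (x * b * x⁻¹) * x⁻¹⁻¹ = b := by group
      rwa [e] at h4
    apply hm
    refine comm_symm (FlagNO.V_le_elem fun c hc z hz => ?_)
    rw [mem_centralizer_iff]
    intro a ha
    have h1 : MulAut.conj c⁻¹ • A ≤ centralizer (l (i + 1) : Set G) := by
      refine hA' _ ?_ (hA.map _)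
      have h2 : MulAut.conj c⁻¹ • K = K := conj_eq_of_mem (hn (inv_mem hc))
      rw [← h2]
      exact conj_le_iff.2 hAK
    have h2 : c⁻¹ * a * c ∈ MulAut.conj c⁻¹ • A := by
      rw [mem_conj]
      have e : c⁻¹⁻¹ * (c⁻¹ * a * c) * c⁻¹ = a := by group
      rw [e]
      exact ha
    have h3 := mem_centralizer_iff.1 (h1 h2) z (D.Zl _ hz)
    calc a * (c * z * c⁻¹) = c * ((c⁻¹ * a * c) * z) * c⁻¹ := by group
      _ = c * (z * (c⁻¹ * a * c)) * c⁻¹ := by rw [h3]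
      _ = c * z * c⁻¹ * a := by group

/-- **(G1) over the lines** -/
theorem thmC2F (hML : ML.Final.MLK.{u, u}) (hE : ML.Ex.Two.Ext.{u, u}) (hN : NoInpM.{u, u}) (hK : ∀ i, IsKGroup (CC Z i))
    (torZ : ∀ i, ∀ x ∈ l i, x ≠ 1 → ∀ y ∈ l i, y ≠ 1 → ∃ h : G, h ∈ centralizer (V (i + 1) : Set G) ∧
      MulAut.conj h • l i = l i ∧ h * x * h⁻¹ = y)
    (torU : ∀ i, ∀ x ∈ V i, x ∉ l i → ∀ y ∈ V i, y ∉ l i → ∃ h : G, h ∈ centralizer (V (i + 1) : Set G) ∧
      MulAut.conj h • l i = l i ∧ MulAut.conj h • V i = V i ∧ y⁻¹ * (h * x * h⁻¹) ∈ l i) :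
    PT.ThmC2 l (PT.XW l V) :=
  D.thmC2_of fun i A hA hA2 h => by
    obtain ⟨B, h1, h2, h3, h4, h5⟩ := D.exists_B hML hN hK i
    obtain ⟨A₀, hA₀, hm₀⟩ := D.exists_mxV hML hN hK i
    obtain ⟨A₁, hA₁, hm₁⟩ := D.exists_mxV hML hN hK (i + 1)
    have hdis : V i ⊓ (TwoZ.NN Z i ⊔ l i) ≤ l i := by
      refine D.dis_of (torZ i) (torU i) (D.not_V_le hML hN hK i) ?_
      obtain ⟨a, ha, ham⟩ := SetLike.not_le_iff_exists.1 hm₀
      exact ⟨a, (hA₀.le.trans D.O_le_S) ha, D.mx_le_cl hA₀ i ha, ham⟩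
    exact (D.gst (hK i) hdis h1 h2 h3 h4 h5).g1 hML hE
      (fun _ _ hKC hn hAK hA2 hm => D.lem0F hA₁ (D.mx_le_cl hA₁ _) hm₁ hKC hn hAK hA2 hm)
      (hA.trans (D.cl_le i)) hA hA2 h

/-- **(G3) over the lines** -/
theorem g3F (hML : ML.Final.MLK.{u, u}) (hK : ∀ i, IsKGroup (CC Z i)) (g1 : PT.ThmC2 l (PT.XW l V)) (i : Fin 2) :
    ∃ A : Subgroup G, Mx (o2 (centralizer (zc (S : Subgroup G) : Set G))) A ∧ A ≤ TwoZ.QQ Z i ∧
      ¬ A ≤ centralizer (V i : Set G) := by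
  refine D.frM.g3M hML hK (fun j A hA h => ?_) i
  have h1 := g1 (l j) ⟨j, 1, by rw [map_one, one_smul]⟩ A ((o2_isPGroup _).to_le hA.le) (D.mx_le_cl hA j) ?_
  · rwa [D.NN_eq j] at h1
  · intro x hx g hg
    rw [D.NN_eq j]
    have hx' : x ∈ WW V Z j ⊔ NN Z j := by
      have h2 := D.XW_le j hx
      rwa [sup_comm] at h2
    have h3 := inv_mem (h g hg x hx')
    have e : (g * x * g⁻¹ * x⁻¹)⁻¹ = x * g * x⁻¹ * g⁻¹ := by group
    rwa [e] at h3

end LFr

/-- **two natural blocks with field automorphisms: the end** -/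
theorem LFrW.dead [Finite G] {S : Sylow 2 G} {V Z l : Fin 2 → Subgroup G} (D : LFrW S V Z l)
    (hML : ML.Final.MLK.{u, u}) (hE : ML.Ex.Two.Ext.{u, u}) (hN : NoInpM.{u, u}) (hK : ∀ i, IsKGroup (CC Z i))
    (hP : ∀ i, ∃ P E, LE S V Z l i P E) : False := by
  have h1 := D.toLFr.thmC2F hML hE hN hK
    (fun i x hx hx1 y hy hy1 => by
      obtain ⟨h, a1, a2, -, a4⟩ := D.torZ i x hx hx1 y hy hy1
      exact ⟨h, a1, a2, a4⟩) D.torU
  refine D.false_of' hML hK h1 (D.toLFr.inter hML hK hP (fun A hA i => D.toLFr.mx_le_cl hA i)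
    (fun i => D.toLFr.g3F hML hK h1 i) ?_)
  intro i B hB hB2 hBl he
  exact D.toLFr.k3 hML (hK i) hB hB2 (hBl i) he

end Cfsg.Agent.Omega.KL.TwoZ.Line
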